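import Cfsg.Agent.Lib.SolvSF.CoreBalance
import Cfsg.Agent.Lib.Signalizer.Functor
import Cfsg.Agent.Lib.CoprimeGen
import Cfsg.Agent.Lib.PSolvable
import Cfsg.Agent.Lib.PResidual
import Cfsg.Agent.Lib.PComplement
import Cfsg.Agent.Lib.Fusion.RankTwoSimple
import Cfsg.Agent.Lib.L33Invol.Base
import Cfsg.Agent.Lib.RankTwoSylow.NormalFour
import Cfsg.Agent.S0217
import Cfsg.Agent.S1279

/-!
Groups with solvable involution centralizers: cores of involution centralizers, generation by four-groups,
and transfer in the subgroup generated by the elements of odd order.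
-/

set_option autoImplicit false
set_option linter.unusedSectionVars false
set_option linter.style.haveILetI false

namespace CfsgLib.ZCReduction

open Cfsg Subgroup

universe u

variable {G : Type u} [Group G]

/-- An involution. -/
def IsInvol (t : G) : Prop := t ≠ 1 ∧ t * t = 1

/-- The centralizer of every involution is solvable. -/
def SolvCent (G : Type u) [Group G] : Prop :=
  ∀ t : G, orderOf t = 2 → Group.IsSolvable ↥(centralizer ({t} : Set G))

/-- The core of the centralizer of `t`. -/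
abbrev theta (t : G) : Subgroup G := centralizerPPrimeCore 2 t

theorem IsInvol.orderOf_eq {t : G} (h : IsInvol t) : orderOf t = 2 :=
  orderOf_eq_prime (by rw [pow_two]; exact h.2) h.1

theorem isInvol_of_orderOf {t : G} (h : orderOf t = 2) : IsInvol t :=
  ⟨fun e => by rw [e, orderOf_one] at h; omega, by rw [← pow_two, ← h, pow_orderOf_eq_one]⟩

theorem IsInvol.inv_eq {t : G} (h : IsInvol t) : t⁻¹ = t := inv_eq_of_mul_eq_one_left h.2

theorem IsInvol.conj {t : G} (h : IsInvol t) (g : G) : IsInvol (g * t * g⁻¹) :=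
  ⟨fun e => h.1 (conj_eq_one_iff.mp e), by
    rw [show g * t * g⁻¹ * (g * t * g⁻¹) = g * (t * t) * g⁻¹ by group, h.2, mul_one, mul_inv_cancel]⟩

theorem IsInvol.mul {a b : G} (ha : IsInvol a) (hb : IsInvol b) (hab : a * b = b * a) (hne : a ≠ b) :
    IsInvol (a * b) := by
  refine ⟨fun e => hne ?_, ?_⟩
  · rw [eq_inv_of_mul_eq_one_left e, hb.inv_eq]
  · calc a * b * (a * b) = a * (b * a) * b := by group
      _ = a * (a * b) * b := by rw [hab]
      _ = (a * a) * (b * b) := by group
      _ = 1 := by rw [ha.2, hb.2, one_mul]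

theorem commute_of_mem_cent {g t : G} (h : g ∈ centralizer ({t} : Set G)) : g * t = t * g :=
  mem_centralizer_singleton_iff.mp h

theorem mem_cent_of_commute {g t : G} (h : g * t = t * g) : g ∈ centralizer ({t} : Set G) :=
  mem_centralizer_singleton_iff.mpr h

theorem conj_commute {a b : G} (g : G) (h : a * b = b * a) :
    (g * a * g⁻¹) * (g * b * g⁻¹) = (g * b * g⁻¹) * (g * a * g⁻¹) := by
  rw [show g * a * g⁻¹ * (g * b * g⁻¹) = g * (a * b) * g⁻¹ by group, h]
  group

theorem theta_le_cent (t : G) : theta t ≤ centralizer ({t} : Set G) := map_subtype_le _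

theorem theta_normalized [Finite G] (t : G) : centralizer ({t} : Set G) ≤ normalizer (theta t : Set G) := fun g hg =>
  CfsgLib.Comp.mem_normalizer_of_maps (by
    rintro _ ⟨w, hw, rfl⟩
    exact ⟨⟨g, hg⟩ * w * ⟨g, hg⟩⁻¹, (inferInstance : (pPrimeCore 2 _).Normal).conj_mem w hw _, rfl⟩)

theorem not_two_dvd_theta [Finite G] (t : G) : ¬ 2 ∣ Nat.card (theta t) := fun h => by
  rw [theta, centralizerPPrimeCore, card_map_of_injective (subtype_injective _)] at h
  exact CfsgLib.not_dvd_card_pPrimeCore Nat.prime_two h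

theorem odd_theta [Finite G] (t : G) : Odd (Nat.card (theta t)) :=
  Nat.odd_iff.mpr (Nat.two_dvd_ne_zero.mp (not_two_dvd_theta t))

theorem theta_conj [Finite G] (g t : G) :
    (theta t).map (MulAut.conj g).toMonoidHom = theta (g * t * g⁻¹) :=
  CfsgLib.SolvSF.map_centralizerPPrimeCore' g t

theorem conj_mem_theta [Finite G] (g : G) {t x : G} (hx : x ∈ theta t) :
    g * x * g⁻¹ ∈ theta (g * t * g⁻¹) := CfsgLib.SolvSF.conj_mem_centralizerPPrimeCore g t hx

theorem card_theta_conj [Finite G] (g t : G) : Nat.card (theta (g * t * g⁻¹)) = Nat.card (theta t) := by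
  rw [← theta_conj, card_map_of_injective (MulEquiv.injective (MulAut.conj g))]

theorem balance [Finite G] (hC : SolvCent G) {s t : G} (hs : IsInvol s) (ht : IsInvol t) (hst : s * t = t * s) :
    theta s ⊓ centralizer ({t} : Set G) ≤ theta t := by
  haveI : Fact (Nat.Prime 2) := ⟨Nat.prime_two⟩
  haveI : Group.IsSolvable ↥(centralizer ({t} : Set G)) := hC t ht.orderOf_eq
  haveI : Group.IsSolvable (↥(centralizer ({t} : Set G)) ⧸ pPrimeCore 2 ↥(centralizer ({t} : Set G))) :=
    Group.isSolvable_of_surjective (QuotientGroup.mk'_surjective _)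
  refine CfsgLib.SolvSF.core_balance_of_pLayer hs.orderOf_eq ?_ hst
  exact CfsgLib.Comp.pLayer_eq_bot_iff.mpr CfsgLib.layer_eq_bot_of_isSolvable

/-- A four-group acting on a core generates it by balance. -/
theorem theta_le_sup [Finite G] (hC : SolvCent G) {t a b : G} (ht : IsInvol t) (ha : IsInvol a) (hb : IsInvol b)
    (hne : a ≠ b) (hab : a * b = b * a) (hat : a * t = t * a) (hbt : b * t = t * b) :
    theta t ≤ theta a ⊔ theta b ⊔ theta (a * b) := by
  haveI : Fact (Nat.Prime 2) := ⟨Nat.prime_two⟩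
  set A := CfsgLib.RankTwoSylow.fourOf a b ha.2 hb.2 hab with hA
  have hF := CfsgLib.RankTwoSylow.isFour_fourOf a b ha.2 hb.2 hab ha.1 hb.1 hne
  rw [← hA] at hF
  have hAc : A ≤ centralizer ({t} : Set G) := by
    intro w hw
    refine mem_cent_of_commute ?_
    rcases hF.list w hw with rfl | rfl | rfl | rfl
    · rw [one_mul, mul_one]
    · exact hat
    · exact hbt
    · rw [mul_assoc, hbt, ← mul_assoc, hat, mul_assoc]
  have hsq : ∀ w ∈ A, w * w = 1 := by
    intro w hw
    rcases hF.list w hw with rfl | rfl | rfl | rfl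
    · exact mul_one 1
    · exact ha.2
    · exact hb.2
    · exact (ha.mul hb hab hne).2
  haveI : IsMulCommutative A := ⟨⟨fun x y => Subtype.ext (by
    have hx := hsq _ x.2
    have hy := hsq _ y.2
    have hxy := hsq _ (mul_mem x.2 y.2)
    calc (x : G) * y = ((x : G) * y)⁻¹ := (inv_eq_of_mul_eq_one_left hxy).symm
      _ = (y : G)⁻¹ * (x : G)⁻¹ := mul_inv_rev _ _
      _ = y * x := by rw [inv_eq_of_mul_eq_one_left hx, inv_eq_of_mul_eq_one_left hy])⟩⟩
  have hnc : ¬ IsCyclic A := by
    intro hcy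
    obtain ⟨g, hg⟩ := hcy.exists_generator
    have hg2 : (g : G) * g = 1 := hsq _ g.2
    have key : ∀ w ∈ A, w = 1 ∨ w = g := by
      intro w hw
      obtain ⟨i, hi⟩ := mem_zpowers_iff.mp (hg ⟨w, hw⟩)
      have hi' : w = (g : G) ^ i := by rw [← coe_zpow, hi]
      have h2 : (g : G) ^ (2 : ℤ) = 1 := by rw [zpow_two]; exact hg2
      rcases Int.even_or_odd' i with ⟨k, rfl | rfl⟩
      · exact Or.inl (by rw [hi', zpow_mul, h2, one_zpow])
      · exact Or.inr (by rw [hi', zpow_add, zpow_mul, h2, one_zpow, one_mul, zpow_one])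
    exact hne (((key a hF.hz).resolve_left ha.1).trans ((key b hF.ha).resolve_left hb.1).symm)
  have hcop : (Nat.card A).Coprime (Nat.card (theta t)) := by
    have hp : IsPGroup 2 A := fun w => ⟨1, Subtype.ext (by
      show ((w : G) ^ 2 ^ 1) = 1
      rw [pow_one, pow_two]; exact hsq _ w.2)⟩
    obtain ⟨k, hk⟩ := IsPGroup.iff_card.mp hp
    rw [hk]
    exact (Nat.coprime_two_left.mpr (odd_theta t)).pow_left k
  have hgen := CfsgLib.coprime_generated_by_centralizers hnc (hAc.trans (theta_normalized t)) hcop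
  rw [← hgen]
  refine iSup₂_le fun w hw => ?_
  have hwi : IsInvol w := ⟨hw.2, hsq w hw.1⟩
  refine (balance hC ht hwi ((commute_of_mem_cent (hAc hw.1)).symm)).trans ?_
  rcases hF.list w hw.1 with rfl | rfl | rfl | rfl
  · exact absurd rfl hw.2
  · exact le_sup_left.trans le_sup_left
  · exact le_sup_right.trans le_sup_left
  · exact le_sup_right

/-- The closure over an elementary abelian subgroup of order at least eight has odd order. -/
theorem not_two_dvd_closure [Finite G] (hC : SolvCent G) {a b c : G} (ha : IsInvol a) (hb : IsInvol b)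
    (hc : IsInvol c) (hab : a * b = b * a) (hac : a * c = c * a) (hbc : b * c = c * b) (hne : a ≠ b)
    (hca : c ≠ a) (hcb : c ≠ b) (hcab : c ≠ a * b) {W : Subgroup G}
    (hW : W ≤ theta a ⊔ theta b ⊔ theta (a * b)) : ¬ 2 ∣ Nat.card W := by
  haveI : Fact (Nat.Prime 2) := ⟨Nat.prime_two⟩
  set B : Subgroup G := closure ({a, b, c} : Set G) with hB
  have hcs : ∀ x ∈ ({a, b, c} : Set G), ∀ y ∈ ({a, b, c} : Set G), x * y = y * x := by
    rintro x (rfl | rfl | rfl) y (rfl | rfl | rfl) <;> first
      | rfl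
      | assumption
      | exact hab.symm
      | exact hac.symm
      | exact hbc.symm
  haveI hBc : IsMulCommutative B := ⟨⟨(closureCommGroupOfComm hcs).mul_comm⟩⟩
  have hB2 : ∀ w ∈ B, w ^ 2 = 1 := by
    intro w hw
    induction hw using closure_induction with
    | mem w hw =>
      rcases hw with rfl | rfl | rfl <;> rw [pow_two]
      exacts [ha.2, hb.2, hc.2]
    | one => exact one_pow 2
    | mul x y hx hy ix iy =>
      rw [Commute.mul_pow (show Commute x y from congrArg Subtype.val (hBc.is_comm.comm ⟨x, hx⟩ ⟨y, hy⟩)),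
        ix, iy, one_mul]
    | inv x _ ix => rw [inv_pow, ix, inv_one]
  have hE : IsElementaryAbelian 2 B := ⟨hBc, hB2⟩
  have haB : a ∈ B := subset_closure (by simp)
  have hbB : b ∈ B := subset_closure (by simp)
  have hcB : c ∈ B := subset_closure (by simp)
  have hcard : 2 ^ 3 ≤ Nat.card B := by
    obtain ⟨k, hk⟩ := IsPGroup.iff_card.mp (fun w : B => ⟨1, Subtype.ext (by
      rw [pow_one, SubmonoidClass.coe_pow]; exact hB2 _ w.2)⟩ : IsPGroup 2 B)
    rw [hk]
    refine Nat.pow_le_pow_right two_pos ?_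
    by_contra hk3
    have h4 : Nat.card B ≤ 4 := by
      rw [hk]
      exact (Nat.pow_le_pow_right two_pos (show k ≤ 2 by omega)).trans (by norm_num)
    classical
    let s : Finset G := {1, a, b, a * b, c}
    have hs : s.card = 5 := by
      simp only [s]
      rw [Finset.card_insert_of_notMem, Finset.card_insert_of_notMem, Finset.card_insert_of_notMem,
        Finset.card_insert_of_notMem, Finset.card_singleton] <;>
        simp only [Finset.mem_insert, Finset.mem_singleton, not_or]
      · exact Ne.symm hcab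
      · exact ⟨fun e => ha.1 (mul_eq_right.mp e.symm), Ne.symm hcb⟩
      · exact ⟨hne, fun e => hb.1 (mul_eq_left.mp e.symm), Ne.symm hca⟩
      · exact ⟨Ne.symm ha.1, Ne.symm hb.1, Ne.symm (ha.mul hb hab hne).1, Ne.symm hc.1⟩
    have hsub : (s : Set G) ⊆ B := by
      intro w hw
      simp only [s, Finset.coe_insert, Finset.coe_singleton, Set.mem_insert_iff, Set.mem_singleton_iff] at hw
      rcases hw with rfl | rfl | rfl | rfl | rfl
      exacts [B.one_mem, haB, hbB, B.mul_mem haB hbB, hcB]
    have h5 : 5 ≤ Nat.card B := by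
      rw [← hs, ← Set.ncard_coe_finset, ← SetLike.coe_sort_coe, Nat.card_coe_set_eq]
      exact Set.ncard_le_ncard hsub (Set.toFinite _)
    omega
  have hfun := Cfsg.Agent.S1279.result 2 B hE ((Nat.pow_le_pow_right two_pos (by norm_num)).trans hcard)
    (fun w hw hw1 => hC w (orderOf_eq_prime (hB2 w hw) hw1))
  obtain ⟨⟨h1, h2, h3, h4⟩, h5⟩ := hfun
  have hodd := (Cfsg.Agent.S0217.result (p := 2) B (fun x hx y hy => congrArg Subtype.val
    (hBc.is_comm.comm ⟨x, hx⟩ ⟨y, hy⟩)) hB2 hcard (fun w => theta w) h1 h2 h3 h5 h4).1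
  intro hd
  refine hodd (hd.trans (card_dvd_of_le (hW.trans ?_)))
  refine sup_le (sup_le ?_ ?_) ?_
  · exact le_iSup (fun w : {w : G // w ∈ B ∧ w ≠ 1} => theta (w : G)) ⟨a, haB, ha.1⟩
  · exact le_iSup (fun w : {w : G // w ∈ B ∧ w ≠ 1} => theta (w : G)) ⟨b, hbB, hb.1⟩
  · exact le_iSup (fun w : {w : G // w ∈ B ∧ w ≠ 1} => theta (w : G))
      ⟨a * b, B.mul_mem haB hbB, (ha.mul hb hab hne).1⟩

/-! ### The subgroup generated by the elements of odd order -/

theorem pResidual_no_index_two [Finite G] (K : Subgroup ↥(pResidual 2 G)) (hK : K.Normal) : K.index ≠ 2 :=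
  CfsgLib.L33Invol.no_index_two_of_residual CfsgLib.pResidual_idem K hK

theorem sylow_inf [Finite G] (S : Sylow 2 G) (N : Subgroup G) [N.Normal] :
    ¬ 2 ∣ ((S : Subgroup G) ⊓ N).relIndex N := by
  haveI : Fact (Nat.Prime 2) := ⟨Nat.prime_two⟩
  intro h
  have h1 : ((S : Subgroup G) ⊓ N).relIndex N = (S : Subgroup G).relIndex N := Subgroup.inf_relIndex_right _ _
  rw [h1] at h
  exact S.not_dvd_index (h.trans (CfsgLib.TIHall.relIndex_dvd_index_of_normal_right _ N))

/-- Thompson transfer into a subgroup of index at most two. -/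
theorem transfer [Finite G] (S : Sylow 2 G) {M : Subgroup G} (hM : M ≤ (S : Subgroup G) ⊓ pResidual 2 G)
    (hidx : M.relIndex ((S : Subgroup G) ⊓ pResidual 2 G) ≤ 2) {t : G} (ht : t * t = 1)
    (htR : t ∈ (S : Subgroup G) ⊓ pResidual 2 G) :
    ∃ h ∈ pResidual 2 G, h⁻¹ * t * h ∈ M := by
  haveI : Fact (Nat.Prime 2) := ⟨Nat.prime_two⟩
  haveI := CfsgLib.PResidual.pResidual_normal (G := G) (p := 2)
  set H := pResidual 2 G with hH
  set R := (S : Subgroup G) ⊓ H with hR
  by_contra hcon
  push Not at hcon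
  have hne : M.relIndex R ≠ 0 := Subgroup.index_ne_zero_of_finite (H := M.subgroupOf R)
  have h1 : M.relIndex R ≠ 1 := fun e => hcon 1 H.one_mem (by
    simpa using relIndex_eq_one.mp e htR)
  have h2 : M.relIndex R = 2 := by omega
  have hodd : Odd (R.relIndex H) := Nat.odd_iff.mpr (Nat.two_dvd_ne_zero.mp (sylow_inf S H))
  have hprod := relIndex_mul_relIndex M R H hM inf_le_right
  rw [h2] at hprod
  have hidx' : (M.subgroupOf H).index = 2 * R.relIndex H := hprod.symm
  obtain ⟨K, hK, hK2⟩ := CfsgLib.RankTwoSimple.exists_index_two (G := ↥H) (M.subgroupOf H) hidx' hodd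
    (t := ⟨t, htR.2⟩) (Subtype.ext ht) (fun g hg => hcon g g.2 (by simpa [mem_subgroupOf] using hg))
  exact pResidual_no_index_two K hK hK2

end CfsgLib.ZCReduction
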