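import Cfsg.Agent.Lib.ZCReduction.Control
import Cfsg.Agent.Lib.RankThreeCentralizer
import Cfsg.Agent.Lib.RankTwoSylow.NormalFour
import Cfsg.Agent.Lib.BSW.Dihedral
import Cfsg.Agent.S3224

/-!
The case of a single central involution `z` whose centralizer normalizes the Sylow subgroup: if `z` is not
weakly closed, an odd subgroup as in `Control` exists.
-/

set_option autoImplicit false
set_option linter.unusedSectionVars false
set_option linter.style.haveILetI false

namespace CfsgLib.ZCReduction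

open Cfsg Subgroup
open scoped Pointwise

universe u

variable {G : Type u} [Group G] [Finite G]

/-- The hypothesis on the central involution. -/
structure One (S : Sylow 2 G) (z : G) : Prop where
  hz : IsInvol z
  zS : z ∈ (S : Subgroup G)
  central : ∀ s ∈ (S : Subgroup G), z * s = s * z
  uniq : ∀ v ∈ (S : Subgroup G), IsInvol v → (∀ s ∈ (S : Subgroup G), v * s = s * v) → v = z
  cent : centralizer ({z} : Set G) ≤ normalizer ((S : Subgroup G) : Set G)

/-- All involutions of `S` in the subgroup of elements of odd order are conjugate to `z`. -/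
def AllConj (S : Sylow 2 G) (z : G) : Prop :=
  ∀ t, IsInvol t → t ∈ (S : Subgroup G) → t ∈ pResidual 2 G → ∃ g : G, t = g * z * g⁻¹

theorem closure_three_pGroup {a b c : G} (ha : IsInvol a) (hb : IsInvol b)
    (hc : IsInvol c) (hab : a * b = b * a) (hac : a * c = c * a) (hbc : b * c = c * b) :
    IsPGroup 2 (closure ({a, b, c} : Set G)) := by
  have hcs : ∀ x ∈ ({a, b, c} : Set G), ∀ y ∈ ({a, b, c} : Set G), x * y = y * x := by
    rintro x (rfl | rfl | rfl) y (rfl | rfl | rfl) <;> first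
      | rfl
      | assumption
      | exact hab.symm
      | exact hac.symm
      | exact hbc.symm
  haveI hBc : IsMulCommutative (closure ({a, b, c} : Set G)) :=
    ⟨⟨(closureCommGroupOfComm hcs).mul_comm⟩⟩
  refine fun w => ⟨1, Subtype.ext ?_⟩
  rw [pow_one, SubmonoidClass.coe_pow, OneMemClass.coe_one]
  obtain ⟨w, hw⟩ := w
  show w ^ 2 = 1
  induction hw using closure_induction with
  | mem w hw =>
    rcases hw with rfl | rfl | rfl <;> rw [pow_two]
    exacts [ha.2, hb.2, hc.2]
  | one => exact one_pow 2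
  | mul x y hx hy ix iy =>
    rw [Commute.mul_pow (show Commute x y from congrArg Subtype.val (hBc.is_comm.comm ⟨x, hx⟩ ⟨y, hy⟩)),
      ix, iy, one_mul]
  | inv x _ ix => rw [inv_pow, ix, inv_one]

theorem commute_mul_left {a b t : G} (h1 : a * t = t * a) (h2 : b * t = t * b) : a * b * t = t * (a * b) := by
  rw [mul_assoc, h2, ← mul_assoc, h1, mul_assoc]

variable {S : Sylow 2 G} {z : G}

theorem One.mem_of_pGroup (h : One S z) {P : Subgroup G} (hP : IsPGroup 2 P)
    (hPC : P ≤ centralizer ({z} : Set G)) : P ≤ (S : Subgroup G) := by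
  have hsup : IsPGroup 2 (P ⊔ (S : Subgroup G) : Subgroup G) :=
    IsPGroup.to_sup_of_normal_right' hP S.2 (hPC.trans h.cent)
  exact le_sup_left.trans (S.3 hsup le_sup_right).le

theorem One.mem_of_commute (h : One S z) {v : G} (hv : v * v = 1) (hvz : v * z = z * v) :
    v ∈ (S : Subgroup G) := by
  refine h.mem_of_pGroup (P := zpowers v) (fun w => ⟨1, Subtype.ext ?_⟩)
    (zpowers_le.mpr (mem_cent_of_commute hvz)) (mem_zpowers v)
  obtain ⟨i, hi⟩ := mem_zpowers_iff.mp w.2
  rw [pow_one, SubmonoidClass.coe_pow, OneMemClass.coe_one, ← hi, ← zpow_natCast, ← zpow_mul, mul_comm,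
    zpow_mul, zpow_natCast, pow_two, hv, one_zpow]

theorem One.symm_conj (h : One S z) {g : G} (hg : g * z * g⁻¹ ∈ (S : Subgroup G)) :
    g⁻¹ * z * g ∈ (S : Subgroup G) := by
  have h1 := h.central _ hg
  have h2 := conj_commute g⁻¹ h1.symm
  rw [show g⁻¹ * (g * z * g⁻¹) * g⁻¹⁻¹ = z by group, inv_inv] at h2
  exact h.mem_of_commute (by rw [show g⁻¹ * z * g * (g⁻¹ * z * g) = g⁻¹ * (z * z) * g by group, h.hz.2]; group)
    h2.symm

theorem One.theta_z_le (h : One S z) (hC : SolvCent G) {t : G} (ht : IsInvol t) (htS : t ∈ (S : Subgroup G)) :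
    theta z ≤ theta t := by
  intro w hw
  have htz : t ∈ centralizer ({z} : Set G) := mem_cent_of_commute (h.central t htS).symm
  have hwN := h.cent (theta_le_cent z hw)
  set x := w * t * w⁻¹ * t⁻¹ with hx
  have hx1 : x ∈ (S : Subgroup G) := mul_mem ((mem_normalizer_iff.mp hwN t).mp htS) (inv_mem htS)
  have hx2 : x ∈ theta z := by
    have h3 := (mem_normalizer_iff.mp (theta_normalized z htz) w⁻¹).mp (inv_mem hw)
    rw [hx, show w * t * w⁻¹ * t⁻¹ = w * (t * w⁻¹ * t⁻¹) by group]
    exact mul_mem hw h3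
  have hx0 : x = 1 := by
    haveI : Fact (Nat.Prime 2) := ⟨Nat.prime_two⟩
    obtain ⟨k, hk⟩ := IsPGroup.iff_orderOf.mp S.2 ⟨x, hx1⟩
    rw [orderOf_mk] at hk
    exact orderOf_eq_one_iff.mp (Nat.eq_one_of_dvd_coprimes
      ((Nat.coprime_two_left.mpr (odd_theta z)).pow_left k) (dvd_of_eq hk) (orderOf_dvd_natCard _ hx2))
  exact balance hC h.hz ht (h.central t htS) ⟨hw, mem_cent_of_commute
    (mul_inv_eq_iff_eq_mul.mp (mul_inv_eq_one.mp (hx ▸ hx0)))⟩

theorem One.theta_conj_eq (h : One S z) (hC : SolvCent G) {g : G} (hg : g * z * g⁻¹ ∈ (S : Subgroup G)) :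
    theta (g * z * g⁻¹) = theta z :=
  (eq_of_le_of_card_ge (h.theta_z_le hC (h.hz.conj g) hg) (card_theta_conj g z).le).symm

theorem One.mem_H (h : One S z) (hne : ∃ t, IsInvol t ∧ t ∈ (S : Subgroup G) ∧ t ∈ pResidual 2 G) :
    z ∈ pResidual 2 G := by
  haveI : Fact (Nat.Prime 2) := ⟨Nat.prime_two⟩
  haveI := CfsgLib.PResidual.pResidual_normal (G := G) (p := 2)
  obtain ⟨t, ht, htS, htH⟩ := hne
  haveI : Group.IsNilpotent (S : Subgroup G) := S.2.isNilpotent
  set N := (pResidual 2 G).subgroupOf (S : Subgroup G) with hN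
  have hNne : N ≠ ⊥ := fun e => by
    have h0 : (⟨t, htS⟩ : (S : Subgroup G)) ∈ N := htH
    rw [e, mem_bot] at h0
    exact ht.1 (congrArg Subtype.val h0)
  have hV := CfsgLib.inf_center_ne_bot_of_nilpotent hNne
  obtain ⟨k, hk⟩ := (S.2.to_subgroup (N ⊓ center (S : Subgroup G))).exists_card_eq
  have hk0 : k ≠ 0 := fun e => hV (eq_bot_of_card_eq _ (by rw [hk, e, pow_zero]))
  obtain ⟨c, hc⟩ := exists_prime_orderOf_dvd_card' (G := ↥(N ⊓ center (S : Subgroup G))) 2
    (hk ▸ dvd_pow_self 2 hk0)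
  have hcz : ((c : (S : Subgroup G)) : G) = z := h.uniq _ (c : (S : Subgroup G)).2
    (isInvol_of_orderOf (by rw [orderOf_coe, orderOf_coe]; exact hc))
    (fun s hs => (congrArg Subtype.val (mem_center_iff.mp c.2.2 ⟨s, hs⟩)).symm)
  exact hcz ▸ c.2.1

/-- A cyclic subgroup of index two. -/
theorem One.allConj_of_cyclic (h : One S z) (a : (S : Subgroup G)) (ha : Nat.card (S : Subgroup G) ≤ 2 * orderOf a) :
    AllConj S z := by
  haveI : Fact (Nat.Prime 2) := ⟨Nat.prime_two⟩
  intro t ht htS htH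
  set A := zpowers a with hA
  have hAc : Nat.card A * A.index = Nat.card (S : Subgroup G) := A.card_mul_index
  rw [Nat.card_zpowers] at hAc
  have hAi : A.index ≤ 2 := by
    refine Nat.le_of_mul_le_mul_left ?_ (orderOf_pos a)
    rw [hAc]; linarith
  haveI hAn : A.Normal := by
    rcases Nat.lt_or_ge A.index 2 with h1 | h1
    · have h0 := Subgroup.index_ne_zero_of_finite (H := A)
      have e : A = ⊤ := index_eq_one.mp (by omega)
      rw [e]
      exact inferInstance
    · exact normal_of_index_eq_two (le_antisymm hAi h1)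
  set C := A.map (S : Subgroup G).subtype with hCd
  have huniq : ∀ v ∈ C, IsInvol v → v = z := by
    rintro _ ⟨v, hv, rfl⟩ hvi
    refine h.uniq _ v.2 hvi fun s hs => ?_
    have hv2 : orderOf v = 2 := by rw [← orderOf_coe]; exact hvi.orderOf_eq
    have := CfsgLib.BSW.unique_involution_of_cyclic A (hAn.conj_mem v hv ⟨s, hs⟩) hv
      (by rw [← MulAut.conj_apply, MulEquiv.orderOf_eq, hv2]) hv2
    exact (congrArg Subtype.val (mul_inv_eq_iff_eq_mul.mp this)).symm
  set R := (S : Subgroup G) ⊓ pResidual 2 G with hR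
  have hidx : (C ⊓ R).relIndex R ≤ 2 := by
    rw [inf_relIndex_right]
    have e : C.relIndex (S : Subgroup G) = A.index := by
      show (C.subgroupOf _).index = _
      rw [hCd, subgroupOf, comap_map_eq_self_of_injective (S : Subgroup G).subtype_injective]
    refine (relIndex_le_of_le_right inf_le_left ?_).trans (e ▸ hAi)
    rw [e]; exact Subgroup.index_ne_zero_of_finite
  obtain ⟨g, -, hgC⟩ := transfer S inf_le_right hidx ht.2 ⟨htS, htH⟩
  refine ⟨g, ?_⟩
  rw [← huniq _ hgC.1 (by simpa using ht.conj g⁻¹)]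
  group

theorem One.card_cent_ne_four (h : One S z) (hn : ¬ AllConj S z) (x : (S : Subgroup G)) (hx : orderOf x = 2) :
    Nat.card ↥(centralizer ({x} : Set (S : Subgroup G))) ≠ 4 := by
  intro h4
  rcases Cfsg.Agent.S3224.result S.2 x hx h4 with ⟨n, ⟨e⟩⟩ | ⟨n, -, hcard, a, b, ha, -, -⟩ | hS4
  · refine hn (h.allConj_of_cyclic (e.symm (DihedralGroup.r 1)) ?_)
    rw [MulEquiv.orderOf_eq, DihedralGroup.orderOf_r_one, Nat.card_congr e.toEquiv, DihedralGroup.nat_card]
  · exact hn (h.allConj_of_cyclic a (by rw [hcard, ha, pow_succ']))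
  · refine hn (h.allConj_of_cyclic ⟨z, h.zS⟩ ?_)
    rw [hS4, orderOf_mk, h.hz.orderOf_eq]

/-- A second element of a normal four-group. -/
structure Four (S : Sylow 2 G) (z u : G) : Prop where
  hu : IsInvol u
  uS : u ∈ (S : Subgroup G)
  ne : u ≠ z
  conj : ∀ s ∈ (S : Subgroup G), s * u * s⁻¹ = u ∨ s * u * s⁻¹ = z * u

theorem One.exists_four (h : One S z) (hn : ¬ AllConj S z) {x : G} (hx : IsInvol x)
    (hxS : x ∈ (S : Subgroup G)) (hxz : x ≠ z) : ∃ u, Four S z u := by
  classical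
  haveI : Fact (Nat.Prime 2) := ⟨Nat.prime_two⟩
  set P := (S : Subgroup G)
  suffices ∃ U : Subgroup ↥P, U.Normal ∧ Nat.card U = 4 ∧ ∀ w ∈ U, w ^ 2 = 1 by
    obtain ⟨U, hUn, hU4, hU2⟩ := this
    haveI := hUn
    haveI : Group.IsNilpotent ↥P := S.2.isNilpotent
    have hU1 : U ≠ ⊥ := fun e => by rw [e, card_bot] at hU4; omega
    obtain ⟨c, hc, hc1⟩ := (Subgroup.ne_bot_iff_exists_ne_one.mp (CfsgLib.inf_center_ne_bot_of_nilpotent hU1)) |>
      fun ⟨w, hw⟩ => (⟨w.1, w.2, fun e => hw (Subtype.ext e)⟩ : ∃ c, c ∈ U ⊓ center ↥P ∧ c ≠ 1)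
    have hci : IsInvol (c : G) := ⟨fun e => hc1 (Subtype.ext e), by
      rw [← pow_two]; exact congrArg Subtype.val (hU2 c hc.1)⟩
    have hcz : (c : G) = z :=
      h.uniq _ c.2 hci fun s hs => (congrArg Subtype.val (mem_center_iff.mp hc.2 ⟨s, hs⟩)).symm
    have hzU : (⟨z, h.zS⟩ : ↥P) ∈ U := by
      have e : (⟨z, h.zS⟩ : ↥P) = c := Subtype.ext hcz.symm
      rw [e]
      exact hc.1
    obtain ⟨u, huU, hu1, huz⟩ : ∃ u ∈ U, u ≠ 1 ∧ u ≠ (⟨z, h.zS⟩ : ↥P) := by
      by_contra hcon
      push Not at hcon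
      have hs : (U : Set ↥P) ⊆ {1, ⟨z, h.zS⟩} := fun w hw => by
        by_cases e : w = 1
        · exact Or.inl e
        · exact Or.inr (hcon w hw e)
      have h2 := Set.ncard_le_ncard hs (Set.toFinite _)
      rw [← Nat.card_coe_set_eq, SetLike.coe_sort_coe, hU4] at h2
      have h3 := (Set.ncard_insert_le (1 : ↥P) {⟨z, h.zS⟩})
      rw [Set.ncard_singleton] at h3
      omega
    have hui : IsInvol (u : G) := ⟨fun e => hu1 (Subtype.ext e), by
      rw [← pow_two]; exact congrArg Subtype.val (hU2 u huU)⟩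
    refine ⟨u, hui, u.2, fun e => huz (Subtype.ext e), fun s hs => ?_⟩
    set w := (⟨s, hs⟩ : ↥P) * u * (⟨s, hs⟩ : ↥P)⁻¹ with hw
    have hwU : w ∈ U := hUn.conj_mem u huU _
    have hsU : ({1, ⟨z, h.zS⟩, u, ⟨z, h.zS⟩ * u} : Set ↥P) = (U : Set ↥P) := by
      refine Set.eq_of_subset_of_ncard_le ?_ (le_of_eq ?_) (Set.toFinite _)
      · rintro v (rfl | rfl | rfl | rfl)
        exacts [one_mem U, hzU, huU, mul_mem hzU huU]
      · have hz1 : (⟨z, h.zS⟩ : ↥P) ≠ 1 := fun e => h.hz.1 (congrArg Subtype.val e)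
        have hzu1 : (⟨z, h.zS⟩ : ↥P) * u ≠ 1 := fun e => huz <| by
          have e2 : z * (u : G) = 1 := congrArg Subtype.val e
          exact Subtype.ext (by rw [eq_inv_of_mul_eq_one_right e2, h.hz.inv_eq])
        rw [← Nat.card_coe_set_eq (U : Set ↥P), SetLike.coe_sort_coe, hU4,
          Set.ncard_insert_of_notMem (by simp [Ne.symm hz1, Ne.symm hu1, Ne.symm hzu1]) (Set.toFinite _),
          Set.ncard_insert_of_notMem (by simp [Ne.symm huz, hu1]) (Set.toFinite _),
          Set.ncard_pair (fun e => hz1 (mul_eq_right.mp e.symm))]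
    have hw4 : w ∈ ({1, ⟨z, h.zS⟩, u, ⟨z, h.zS⟩ * u} : Set ↥P) := hsU.symm ▸ hwU
    rcases hw4 with e | e | e | e
    · exact absurd (conj_eq_one_iff.mp (hw ▸ e)) hu1
    · exfalso
      refine huz ?_
      have e2 : s * (u : G) * s⁻¹ = z := congrArg Subtype.val (hw ▸ e)
      refine Subtype.ext ?_
      show (u : G) = z
      rw [show (u : G) = s⁻¹ * (s * u * s⁻¹) * s by group, e2, mul_assoc, h.central s hs, ← mul_assoc,
        inv_mul_cancel, one_mul]
    · exact Or.inl (congrArg Subtype.val (hw ▸ e))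
    · exact Or.inr (congrArg Subtype.val (hw ▸ e))
  by_cases h8 : ∃ E : Subgroup ↥P, Nat.card E = 8 ∧ ∀ w ∈ E, w ^ 2 = 1
  · obtain ⟨E, hE8, hE⟩ := h8
    exact CfsgLib.RankThreeCent.exists_normal_four S.2 E hE8 hE
  · have hr : PRankLE 2 2 ↥P := by
      intro A _ hA
      by_contra hlt
      have hAp : IsPGroup 2 A := S.2.to_subgroup A
      obtain ⟨k, hk⟩ := IsPGroup.iff_card.mp hAp
      have hk3 : 3 ≤ k := by
        rw [hk] at hlt
        by_contra hk'
        exact hlt (Nat.pow_le_pow_right two_pos (by omega))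
      obtain ⟨E, hE⟩ := Sylow.exists_subgroup_card_pow_prime (G := ↥A) 2 (n := 3) (hk ▸ pow_dvd_pow 2 hk3)
      refine h8 ⟨E.map A.subtype, by rw [card_map_of_injective A.subtype_injective, hE]; norm_num, ?_⟩
      rintro _ ⟨w, -, rfl⟩
      exact hA _ w.2
    have h1 : ¬ PRankLE 2 1 ↥P := by
      intro h1
      set a : ↥P := ⟨z, h.zS⟩
      set b : ↥P := ⟨x, hxS⟩
      have hab : a * b = b * a := Subtype.ext (h.central x hxS)
      have haa : a * a = 1 := Subtype.ext h.hz.2
      have hbb : b * b = 1 := Subtype.ext hx.2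
      set F := CfsgLib.RankTwoSylow.fourOf a b haa hbb hab
      have hF := CfsgLib.RankTwoSylow.isFour_fourOf a b haa hbb hab (fun e => h.hz.1 (congrArg Subtype.val e))
        (fun e => hx.1 (congrArg Subtype.val e)) (fun e => hxz (congrArg Subtype.val e).symm)
      have hF2 : ∀ w ∈ F, w ^ 2 = 1 := by
        intro w hw
        rw [pow_two]
        rcases hF.list w hw with rfl | rfl | rfl | rfl
        · exact mul_one 1
        · exact haa
        · exact hbb
        · calc a * b * (a * b) = a * (b * a) * b := by group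
            _ = a * (a * b) * b := by rw [hab]
            _ = (a * a) * (b * b) := by group
            _ = 1 := by rw [haa, hbb, one_mul]
      have hle := h1 F ⟨⟨fun p q => Subtype.ext (CfsgLib.RankThreeCent.commute_of_exp_two hF2 p.2 q.2)⟩⟩ hF2
      have h3 : 3 ≤ Nat.card F := by
        have hsub : ({1, a, b} : Set ↥P) ⊆ (F : Set ↥P) := by
          rintro v (rfl | rfl | rfl)
          exacts [one_mem F, hF.hz, hF.ha]
        have h2 := Set.ncard_le_ncard hsub (Set.toFinite _)
        rw [Set.ncard_insert_of_notMem (by simp [Ne.symm hF.z1, Ne.symm hF.a1]) (Set.toFinite _),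
          Set.ncard_pair hF.za, ← Nat.card_coe_set_eq, SetLike.coe_sort_coe] at h2
        exact h2
      omega
    obtain ⟨U, a, b, hUn, hU, -⟩ := CfsgLib.RankTwoSylow.exists_normal_four S.2 hr h1 (h.card_cent_ne_four hn)
    refine ⟨U, hUn, ?_, fun w hw => ?_⟩
    · have hs : (U : Set ↥P) = {1, a, b, a * b} := by
        refine Set.Subset.antisymm (fun w hw => ?_) ?_
        · rcases hU.list w hw with e | e | e | e <;> simp [e]
        · rintro v (rfl | rfl | rfl | rfl)
          exacts [one_mem U, hU.hz, hU.ha, mul_mem hU.hz hU.ha]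
      have hab1 : a * b ≠ 1 := fun e => hU.za (by
        rw [eq_inv_of_mul_eq_one_left e, inv_eq_of_mul_eq_one_left hU.a2])
      rw [← SetLike.coe_sort_coe, Nat.card_coe_set_eq, hs,
        Set.ncard_insert_of_notMem (by simp [Ne.symm hU.z1, Ne.symm hU.a1, Ne.symm hab1]) (Set.toFinite _),
        Set.ncard_insert_of_notMem (by simp [hU.za, hU.a1]) (Set.toFinite _),
        Set.ncard_pair (fun e => hU.z1 (mul_eq_right.mp e.symm))]
    · rw [pow_two]
      rcases hU.list w hw with rfl | rfl | rfl | rfl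
      · exact mul_one 1
      · exact hU.z2
      · exact hU.a2
      · calc a * b * (a * b) = a * (b * a) * b := by group
          _ = a * (a * b) * b := by rw [hU.comm]
          _ = (a * a) * (b * b) := by group
          _ = 1 := by rw [hU.z2, hU.a2, one_mul]

variable {u : G}

theorem Four.half (hu : Four S z u) {a b : G} (ha : a ∈ (S : Subgroup G)) (hb : b ∈ (S : Subgroup G))
    (hz1 : z ≠ 1) (hza : z * a = a * z) :
    a * u = u * a ∨ b * u = u * b ∨ (a * b) * u = u * (a * b) := by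
  rcases hu.conj a ha with e1 | e1
  · exact Or.inl (mul_inv_eq_iff_eq_mul.mp e1)
  rcases hu.conj b hb with e2 | e2
  · exact Or.inr (Or.inl (mul_inv_eq_iff_eq_mul.mp e2))
  refine Or.inr (Or.inr (mul_inv_eq_iff_eq_mul.mp ?_))
  rcases hu.conj _ (mul_mem ha hb) with e3 | e3
  · exact e3
  exfalso
  rw [show a * b * u * (a * b)⁻¹ = a * (b * u * b⁻¹) * a⁻¹ by group, e2,
    show a * (z * u) * a⁻¹ = (a * z) * u * a⁻¹ by group, ← hza,
    show z * a * u * a⁻¹ = z * (a * u * a⁻¹) by group, e1] at e3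
  have h1 : z * u = u := mul_left_cancel e3
  exact absurd (mul_eq_right.mp h1) hz1

end CfsgLib.ZCReduction
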