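import Cfsg.Agent.Lib.ZCReduction.Basic
import Cfsg.Agent.Lib.PairsSylow.Main
import Cfsg.Agent.Lib.PairSol.Basic
import Cfsg.Agent.Lib.Comp.Balance
import Cfsg.Agent.S0505

/-!
An odd subgroup `W` whose normalizer controls the fusion of a central subgroup of a Sylow `2`-subgroup and which
contains the cores of the extremal involution centralizers: either the normalizer is strongly embedded or the
group is of characteristic two type.
-/

set_option autoImplicit false
set_option linter.unusedSectionVars false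
set_option linter.style.haveILetI false

namespace CfsgLib.ZCReduction

open Cfsg Subgroup
open scoped Pointwise

universe u

variable {G : Type u} [Group G] [Finite G]

/-- An involution of `S` whose centralizer in `S` is a maximal `2`-subgroup of its centralizer. -/
def Extremal (S : Sylow 2 G) (t : G) : Prop :=
  ∀ P : Subgroup G, IsPGroup 2 P → P ≤ centralizer ({t} : Set G) →
    (S : Subgroup G) ⊓ centralizer ({t} : Set G) ≤ P → P = (S : Subgroup G) ⊓ centralizer ({t} : Set G)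

/-- The data. -/
structure Hyp (S : Sylow 2 G) (X Z W : Subgroup G) : Prop where
  Xn : X.Normal
  ZS : Z ≤ (S : Subgroup G)
  Zc : ∀ z ∈ Z, ∀ s ∈ (S : Subgroup G), z * s = s * z
  odd : ¬ 2 ∣ Nat.card W
  cl : ∀ g : G, (∀ z ∈ Z, g * z * g⁻¹ ∈ (S : Subgroup G)) → g ∈ normalizer (W : Set G)
  hθ : ∀ t : G, IsInvol t → t ∈ (S : Subgroup G) → t ∈ X → Extremal S t → theta t ≤ W

/-- A `2`-subgroup is conjugate into a given Sylow subgroup. -/
theorem exists_conj_into (S : Sylow 2 G) {P : Subgroup G} (hP : IsPGroup 2 P) :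
    ∃ m : G, ∀ w ∈ P, m * w * m⁻¹ ∈ (S : Subgroup G) := by
  haveI : Fact (Nat.Prime 2) := ⟨Nat.prime_two⟩
  obtain ⟨T, hT⟩ := hP.exists_le_sylow
  obtain ⟨m, hm⟩ := MulAction.exists_smul_eq G T S
  refine ⟨m, fun w hw => ?_⟩
  rw [← hm, Sylow.coe_subgroup_smul]
  exact smul_mem_pointwise_smul w (MulAut.conj m) (T : Subgroup G) (hT hw)

variable {S : Sylow 2 G} {X Z W : Subgroup G}

theorem Hyp.S_le (h : Hyp S X Z W) : (S : Subgroup G) ≤ normalizer (W : Set G) := fun g hg =>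
  h.cl g fun _ hz => mul_mem (mul_mem hg (h.ZS hz)) (inv_mem hg)

theorem Hyp.exists_extremal (h : Hyp S X Z W) {t : G} (ht : IsInvol t) (htS : t ∈ (S : Subgroup G))
    (htX : t ∈ X) :
    ∃ g ∈ normalizer (W : Set G), g * t * g⁻¹ ∈ (S : Subgroup G) ∧ g * t * g⁻¹ ∈ X ∧
      Extremal S (g * t * g⁻¹) := by
  set C := centralizer ({t} : Set G) with hCd
  obtain ⟨P, ⟨hP2, hPC, hPS⟩, hmax⟩ := (Set.toFinite {P : Subgroup G | IsPGroup 2 P ∧ P ≤ C ∧
    (S : Subgroup G) ⊓ C ≤ P}).exists_maximal ⟨_, S.2.to_le inf_le_left, inf_le_right, le_rfl⟩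
  obtain ⟨g, hg⟩ := exists_conj_into S hP2
  have htC : t ∈ C := mem_cent_of_commute rfl
  have hgM : g ∈ normalizer (W : Set G) := h.cl g fun z hz =>
    hg z (hPS ⟨h.ZS hz, mem_cent_of_commute (h.Zc z hz t htS)⟩)
  refine ⟨g, hgM, hg t (hPS ⟨htS, htC⟩), h.Xn.conj_mem t htX g, fun Q hQ hQC hQS => ?_⟩
  refine le_antisymm ?_ hQS
  set Q' := Q.map (MulAut.conj g⁻¹).toMonoidHom with hQ'
  have hQ'C : Q' ≤ C := by
    rintro _ ⟨q, hq, rfl⟩
    have hc := commute_of_mem_cent (hQC hq)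
    have h2 := conj_commute g⁻¹ hc
    rw [show g⁻¹ * (g * t * g⁻¹) * g⁻¹⁻¹ = t by group] at h2
    exact mem_cent_of_commute (by simpa using h2)
  have hPQ : P ≤ Q' := fun p hp => by
    refine ⟨g * p * g⁻¹, hQS ⟨hg p hp, mem_cent_of_commute
      (conj_commute g (commute_of_mem_cent (hPC hp)))⟩, ?_⟩
    simp [mul_assoc]
  have hle := hmax ⟨hQ.map _, hQ'C, hPS.trans hPQ⟩ hPQ
  intro q hq
  have hqP : g⁻¹ * q * g ∈ P := hle ⟨q, hq, by simp [mul_assoc]⟩
  refine ⟨?_, hQC hq⟩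
  have := hg _ hqP
  rwa [show g * (g⁻¹ * q * g) * g⁻¹ = q by group] at this

/-- The centralizer of an extremal involution. -/
theorem Hyp.cent_extremal (h : Hyp S X Z W) (hC : SolvCent G) {t : G} (ht : IsInvol t)
    (htS : t ∈ (S : Subgroup G)) (htX : t ∈ X) (hext : Extremal S t) :
    centralizer ({t} : Set G) ≤ normalizer (W : Set G) := by
  haveI : Fact (Nat.Prime 2) := ⟨Nat.prime_two⟩
  set C := centralizer ({t} : Set G) with hCd
  set P := (S : Subgroup G) ⊓ C with hPd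
  haveI : Group.IsSolvable ↥C := hC t ht.orderOf_eq
  have hsolv : IsPSolvable 2 ↥C := CfsgLib.PLocal.isPSolvable_of_isSolvable _ ↥C rfl inferInstance
  let T : Sylow 2 ↥C :=
    { toSubgroup := P.subgroupOf C
      isPGroup' := (S.2.to_le inf_le_left).comap_subtype
      is_maximal' := fun {Q} hQ hle => by
        have h1 : Q.map C.subtype = P := hext _ (hQ.map _) (map_subtype_le _) fun x hx =>
          ⟨⟨x, hx.2⟩, hle (show (⟨x, hx.2⟩ : ↥C) ∈ P.subgroupOf C from hx), rfl⟩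
        rw [← h1, subgroupOf, comap_map_eq_self_of_injective C.subtype_injective] }
  have hTmem : ∀ x : ↥C, x ∈ (T : Subgroup ↥C) ↔ (x : G) ∈ P := fun x => Iff.rfl
  intro g hg
  obtain ⟨o, ho, n, hn, hgon⟩ := CfsgLib.PairSol.core_frattini (p := 2) T ⟨g, hg⟩
  have hoW : (o : G) ∈ W := h.hθ t ht htS htX hext ⟨o, ho, rfl⟩
  have hnM : (n : G) ∈ normalizer (W : Set G) := by
    refine h.cl (n : G) fun z hz => ?_
    have hzC : z ∈ C := mem_cent_of_commute (h.Zc z hz t htS)
    have hzT : (⟨z, hzC⟩ : ↥C) ∈ (T : Subgroup ↥C) := (hTmem _).mpr ⟨h.ZS hz, hzC⟩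
    have hcen : (T : Subgroup ↥C) ≤ centralizer ({(⟨z, hzC⟩ : ↥C)} : Set ↥C) := fun s hs =>
      mem_centralizer_singleton_iff.mpr (Subtype.ext (h.Zc z hz (s : G) ((hTmem _).mp hs).1).symm)
    have hzQ : (⟨z, hzC⟩ : ↥C) ∈ (T : Subgroup ↥C) ⊓ pPrimePCore 2 ↥C :=
      ⟨hzT, CfsgLib.PairsSylow.mem_pCore_quotient hsolv T hcen⟩
    exact ((hTmem _).mp ((mem_normalizer_iff.mp hn _).mp hzQ).1).1
  have e : g = (o : G) * n := congrArg Subtype.val hgon
  rw [e]
  exact mul_mem (le_normalizer hoW) hnM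

theorem Hyp.cent (h : Hyp S X Z W) (hC : SolvCent G) {t : G} (ht : IsInvol t) (htS : t ∈ (S : Subgroup G))
    (htX : t ∈ X) : centralizer ({t} : Set G) ≤ normalizer (W : Set G) ∧ theta t ≤ W := by
  obtain ⟨g, hgM, hS', hX', hext⟩ := h.exists_extremal ht htS htX
  have h1 := h.cent_extremal hC (ht.conj g) hS' hX' hext
  refine ⟨fun c hc => ?_, fun x hx => ?_⟩
  · have h2 := h1 (mem_cent_of_commute (conj_commute g (commute_of_mem_cent hc)))
    have := mul_mem (mul_mem (inv_mem hgM) h2) hgM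
    rwa [show g⁻¹ * (g * c * g⁻¹) * g = c by group] at this
  · exact (mem_normalizer_iff.mp hgM x).mpr (h.hθ _ (ht.conj g) hS' hX' hext (conj_mem_theta g hx))

/-- The normalizer controls the fusion of involutions of `S ∩ X`. -/
theorem Hyp.fusion (h : Hyp S X Z W) (hC : SolvCent G) {t g : G} (ht : IsInvol t) (htS : t ∈ (S : Subgroup G))
    (htX : t ∈ X) (hs : g * t * g⁻¹ ∈ (S : Subgroup G)) : g ∈ normalizer (W : Set G) := by
  haveI : Fact (Nat.Prime 2) := ⟨Nat.prime_two⟩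
  set s := g * t * g⁻¹ with hsd
  set C := centralizer ({s} : Set G) with hCd
  have hZC : ∀ z ∈ Z, z ∈ C := fun z hz => mem_cent_of_commute (h.Zc z hz s hs)
  have hgZC : ∀ z ∈ Z, g * z * g⁻¹ ∈ C := fun z hz =>
    mem_cent_of_commute (conj_commute g (h.Zc z hz t htS))
  have hZp : IsPGroup 2 Z := S.2.to_le h.ZS
  obtain ⟨T1, hT1⟩ := (hZp.comap_subtype (K := C)).exists_le_sylow
  obtain ⟨T2, hT2⟩ := ((hZp.map (MulAut.conj g).toMonoidHom).comap_subtype (K := C)).exists_le_sylow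
  obtain ⟨c, hc⟩ := MulAction.exists_smul_eq ↥C T2 T1
  obtain ⟨m, hm⟩ := exists_conj_into S (T1.2.map C.subtype)
  have hmM : m ∈ normalizer (W : Set G) := h.cl m fun z hz =>
    hm z ⟨⟨z, hZC z hz⟩, hT1 (show z ∈ Z from hz), rfl⟩
  have hall : m * (c : G) * g ∈ normalizer (W : Set G) := by
    refine h.cl _ fun z hz => ?_
    have h2 : (⟨g * z * g⁻¹, hgZC z hz⟩ : ↥C) ∈ (T2 : Subgroup ↥C) := hT2 ⟨z, hz, rfl⟩
    have h1 : c * ⟨g * z * g⁻¹, hgZC z hz⟩ * c⁻¹ ∈ (T1 : Subgroup ↥C) := by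
      rw [← hc, Sylow.coe_subgroup_smul]
      exact smul_mem_pointwise_smul _ (MulAut.conj c) (T2 : Subgroup ↥C) h2
    have h3 := hm _ ⟨_, h1, rfl⟩
    rw [show m * (c : G) * g * z * (m * (c : G) * g)⁻¹
      = m * ((c : G) * (g * z * g⁻¹) * (c : G)⁻¹) * m⁻¹ by group]
    exact h3
  have hcM : (c : G) ∈ normalizer (W : Set G) := (h.cent hC (ht.conj g) hs (h.Xn.conj_mem t htX g)).1 c.2
  have := mul_mem (inv_mem (mul_mem hmM hcM)) hall
  rwa [show (m * (c : G))⁻¹ * (m * (c : G) * g) = g by group] at this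

/-- An involution of the normalizer is conjugate there into `S`. -/
theorem Hyp.into_S (h : Hyp S X Z W) {t : G} (ht : IsInvol t) (htM : t ∈ normalizer (W : Set G)) :
    ∃ m ∈ normalizer (W : Set G), m * t * m⁻¹ ∈ (S : Subgroup G) := by
  haveI : Fact (Nat.Prime 2) := ⟨Nat.prime_two⟩
  set M := normalizer (W : Set G) with hM
  have hp : IsPGroup 2 (zpowers (⟨t, htM⟩ : ↥M)) := IsPGroup.of_card (n := 1) (by
    rw [Nat.card_zpowers, orderOf_mk, pow_one, ht.orderOf_eq])
  obtain ⟨m, hm⟩ := exists_conj_into (S.subtype h.S_le) hp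
  exact ⟨m, m.2, hm _ (mem_zpowers _)⟩

/-- The alternative. -/
theorem Hyp.conclude (h : Hyp S X Z W) (hC : SolvCent G) (H : Subgroup G) (hHX : H ≤ X)
    (hHS : (S : Subgroup G) ⊔ H = ⊤) (hO : pPrimeCore 2 G = ⊥)
    (hinv : ∃ t, IsInvol t ∧ t ∈ (S : Subgroup G) ∧ t ∈ H) :
    (∃ M : Subgroup ↥H, IsStronglyEmbedded M) ∨ IsCharacteristicTwoType ↥X := by
  haveI : Fact (Nat.Prime 2) := ⟨Nat.prime_two⟩
  haveI := h.Xn
  obtain ⟨t0, ht0, ht0S, ht0H⟩ := hinv
  have heven : ∀ {K : Subgroup G}, t0 ∈ K → Even (Nat.card K) := fun {K} hK => even_iff_two_dvd.mpr <| by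
    have := Subgroup.orderOf_dvd_natCard K hK
    rwa [ht0.orderOf_eq] at this
  by_cases hW : W = ⊥
  · refine Or.inr (Cfsg.Agent.S0505.result (heven (hHX ht0H)) (fun x hx => ?_) (fun x hx => ?_))
    · haveI := hC (x : G) (by rw [orderOf_coe]; exact hx)
      exact Group.isSolvable_of_isSolvable_injective
        (f := ((X.subtype.comp (centralizer ({x} : Set ↥X)).subtype).codRestrict
          (centralizer ({(x : G)} : Set G)) fun y => mem_cent_of_commute
            (congrArg Subtype.val (mem_centralizer_singleton_iff.mp y.2))))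
        (fun a b e => Subtype.ext (Subtype.ext (congrArg (fun w : centralizer ({(x : G)} : Set G) => (w : G)) e)))
    · have hxi : IsInvol (x : G) := isInvol_of_orderOf (by rw [orderOf_coe]; exact hx)
      obtain ⟨m, hm⟩ := exists_conj_into S (IsPGroup.of_card (n := 1) (G := ↥(zpowers (x : G))) (by
        rw [Nat.card_zpowers, pow_one, hxi.orderOf_eq]))
      have h0 : theta (m * x * m⁻¹) = ⊥ := le_bot_iff.mp
        (hW ▸ (h.cent hC (hxi.conj m) (hm _ (mem_zpowers _)) (h.Xn.conj_mem _ x.2 m)).2)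
      have hx0 : theta (x : G) = ⊥ := by
        rw [← card_eq_one, ← card_theta_conj m, h0, card_bot]
      set K := centralizer ({(x : G)} : Set G) with hK
      have hK0 : pPrimeCore 2 ↥K = ⊥ := (map_eq_bot_iff_of_injective _ K.subtype_injective).mp hx0
      let e : ↥(centralizer ({x} : Set ↥X)) ≃* ↥(X.subgroupOf K) :=
        { toFun := fun y => ⟨⟨((y : ↥X) : G), mem_cent_of_commute
            (congrArg Subtype.val (mem_centralizer_singleton_iff.mp y.2))⟩, (y : ↥X).2⟩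
          invFun := fun y => ⟨⟨((y : ↥K) : G), y.2⟩, mem_centralizer_singleton_iff.mpr
            (Subtype.ext (commute_of_mem_cent (y : ↥K).2))⟩
          left_inv := fun y => rfl
          right_inv := fun y => rfl
          map_mul' := fun y w => rfl }
      have h1 : pPrimeCore 2 ↥(X.subgroupOf K) = ⊥ := by
        rw [CfsgLib.Comp.pPrimeCore_subgroupOf, hK0, bot_subgroupOf]
      show pPrimeCore 2 _ = ⊥
      rw [← CfsgLib.pPrimeCore_map_equiv 2 e.symm, h1, Subgroup.map_bot]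
  · left
    set M := normalizer (W : Set G) with hM
    have hMne : ¬ H ≤ M := fun hle => hW <| by
      have htop : M = ⊤ := top_le_iff.mp (hHS ▸ sup_le h.S_le hle)
      haveI : W.Normal := normalizer_eq_top_iff.mp htop
      exact le_bot_iff.mp (hO ▸ CfsgLib.le_pPrimeCore (p := 2) (N := W)
        ((Nat.prime_two.coprime_iff_not_dvd.mpr h.odd).symm))
    refine ⟨M.subgroupOf H, fun e => hMne (subgroupOf_eq_top.mp e), ?_, fun g hg => ?_⟩
    · refine even_iff_two_dvd.mpr ?_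
      have := Subgroup.orderOf_dvd_natCard (M.subgroupOf H) (x := ⟨t0, ht0H⟩) (h.S_le ht0S)
      rwa [orderOf_mk, ht0.orderOf_eq] at this
    · by_contra hev
      rw [Nat.not_odd_iff_even, even_iff_two_dvd] at hev
      obtain ⟨s, hs⟩ := exists_prime_orderOf_dvd_card' 2 hev
      obtain ⟨⟨s, hsM, hsg⟩, rfl⟩ : ∃ y : ↥(M.subgroupOf H ⊓ (M.subgroupOf H).map (MulAut.conj g).toMonoidHom),
          y = s := ⟨s, rfl⟩
      obtain ⟨r, hrM, hr⟩ := hsg
      rw [← orderOf_coe] at hs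
      have hsi : IsInvol (s : G) := isInvol_of_orderOf (by rw [orderOf_coe]; exact hs)
      have hrs : (g : G) * r * (g : G)⁻¹ = s := congrArg Subtype.val hr
      have hri : IsInvol (r : G) := by
        have := hsi.conj (g : G)⁻¹
        rwa [← hrs, show (g : G)⁻¹ * ((g : G) * r * (g : G)⁻¹) * (g : G)⁻¹⁻¹ = r by group] at this
      obtain ⟨a, haM, haS⟩ := h.into_S hsi hsM
      obtain ⟨b, hbM, hbS⟩ := h.into_S hri hrM
      have hf := h.fusion hC (g := a * g * b⁻¹) (hri.conj b) hbS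
        (h.Xn.conj_mem _ (hHX r.2) b) (by
          rw [show a * g * b⁻¹ * (b * r * b⁻¹) * (a * g * b⁻¹)⁻¹ = a * ((g : G) * r * (g : G)⁻¹) * a⁻¹ by group,
            hrs]
          exact haS)
      refine hg (mem_subgroupOf.mpr ?_)
      have := mul_mem (mul_mem (inv_mem haM) hf) hbM
      rwa [show a⁻¹ * (a * (g : G) * b⁻¹) * b = g by group] at this

end CfsgLib.ZCReduction
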