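import Cfsg.Agent.Lib.ZCReduction.Central

/-!
With a normal four-group `⟨z, u⟩` and a non-conjugate involution: the group generated by three cores.
-/

set_option autoImplicit false
set_option linter.unusedSectionVars false
set_option linter.style.haveILetI false

namespace CfsgLib.ZCReduction

open Cfsg Subgroup
open scoped Pointwise

universe u

variable {G : Type u} [Group G] [Finite G] {S : Sylow 2 G} {z u : G}

theorem Four.zu (h : One S z) (hu : Four S z u) : IsInvol (z * u) ∧ z * u ≠ z ∧ z * u ≠ u ∧ z * u = u * z := by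
  have hc := h.central u hu.uS
  exact ⟨h.hz.mul hu.hu hc (Ne.symm hu.ne), fun e => hu.hu.1 (mul_eq_left.mp e),
    fun e => h.hz.1 (mul_eq_right.mp e), hc⟩

theorem mem_cases (h : One S z) {a b : G} (hab : a = z * b) : z * a = b := by
  rw [hab, ← mul_assoc, h.hz.2, one_mul]

theorem Four.exists_swap (h : One S z) (hu : Four S z u) : ∃ s ∈ (S : Subgroup G), s * u * s⁻¹ = z * u := by
  by_contra hall
  push Not at hall
  exact hu.ne (h.uniq u hu.uS hu.hu fun s hs =>
    (mul_inv_eq_iff_eq_mul.mp ((hu.conj s hs).resolve_right (hall s hs))).symm)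

theorem Four.index_le (h : One S z) (hu : Four S z u) :
    (centralizer ({u} : Set G)).relIndex (S : Subgroup G) ≤ 2 := by
  obtain ⟨s, hs, hsu⟩ := hu.exists_swap h
  refine le_of_eq (index_eq_two_iff.mpr ⟨⟨s, hs⟩, fun b => ?_⟩)
  simp only [mem_subgroupOf, Subgroup.coe_mul, mem_centralizer_singleton_iff]
  have hsn : s * u ≠ u * s := fun e => (hu.zu h).2.2.1 (by rw [← hsu, e, mul_inv_cancel_right])
  by_cases hb : (b : G) * u = u * b
  · refine Or.inr ⟨hb, fun e => hsn ?_⟩
    have := commute_mul_left (show Commute (b : G) u from hb).inv_left.eq e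
    rwa [inv_mul_cancel_left] at this
  · exact Or.inl ⟨((hu.half b.2 hs h.hz.1 (h.central _ b.2)).resolve_left hb).resolve_left hsn, hb⟩

/-- A conjugate of `z` not centralizing `u` commutes with a further involution centralizing `u`. -/
theorem One.exists_commuting (h : One S z) (hn : ¬ AllConj S z) (hu : Four S z u) {g x : G}
    (hx : x = g * z * g⁻¹) (hxS : x ∈ (S : Subgroup G)) (hxu : x * u ≠ u * x) :
    ∃ a, IsInvol a ∧ a ∈ (S : Subgroup G) ∧ a * u = u * a ∧ a * x = x * a ∧ a ≠ z := by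
  haveI : Fact (Nat.Prime 2) := ⟨Nat.prime_two⟩
  have hxi : IsInvol x := hx ▸ h.hz.conj g
  have hxz : x ≠ z := fun e => hxu (e ▸ h.central u hu.uS)
  have hmul : ∀ {p q : G}, p ∈ (S : Subgroup G) → q ∈ (S : Subgroup G) → p * u ≠ u * p → q * u ≠ u * q →
      p * q * u = u * (p * q) := fun {p q} hp hq h1 h2 =>
    ((hu.half hp hq h.hz.1 (h.central p hp)).resolve_left h1).resolve_left h2
  by_contra hno
  push Not at hno
  set T := (S : Subgroup G) ⊓ centralizer ({x} : Set G) with hT
  have hxx : x * x = 1 := hxi.2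
  have hsmall : ∀ a ∈ T, a * u = u * a → a * a = 1 → a = 1 ∨ a = z := by
    intro a ha hau ha2
    by_cases e : a = 1
    · exact Or.inl e
    · exact Or.inr (hno a ⟨e, ha2⟩ ha.1 hau (commute_of_mem_cent ha.2))
  have hxT : x ∈ T := ⟨hxS, mem_cent_of_commute rfl⟩
  -- the squares of `T`
  set K := closure {w : G | ∃ a ∈ T, w = a * a} with hK
  have hKT : ∀ w ∈ K, w ∈ T ∧ w * u = u * w := by
    intro w hw
    induction hw using closure_induction with
    | mem w hw =>
      obtain ⟨a, ha, rfl⟩ := hw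
      refine ⟨T.mul_mem ha ha, ?_⟩
      by_cases hau : a * u = u * a
      · exact commute_mul_left hau hau
      · exact hmul ha.1 ha.1 hau hau
    | one => exact ⟨T.one_mem, by rw [one_mul, mul_one]⟩
    | mul p q _ _ ip iq => exact ⟨T.mul_mem ip.1 iq.1, commute_mul_left ip.2 iq.2⟩
    | inv p _ ip =>
      refine ⟨T.inv_mem ip.1, ?_⟩
      exact (show Commute p u from ip.2).inv_left.eq
  by_cases hexp : ∀ a ∈ T, a * u = u * a → a * a = 1
  · -- `T` has order four
    have hall : ∀ a ∈ T, a = 1 ∨ a = z ∨ a = x ∨ a = x * z := by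
      intro a ha
      by_cases hau : a * u = u * a
      · rcases hsmall a ha hau (hexp a ha hau) with e | e
        · exact Or.inl e
        · exact Or.inr (Or.inl e)
      · have h1 : x * a ∈ T := T.mul_mem hxT ha
        have h2 := hmul hxS ha.1 hxu hau
        rcases hsmall _ h1 h2 (hexp _ h1 h2) with e | e
        · refine Or.inr (Or.inr (Or.inl ?_))
          rw [eq_inv_of_mul_eq_one_right e, hxi.inv_eq]
        · refine Or.inr (Or.inr (Or.inr ?_))
          rw [← e, ← mul_assoc, hxx, one_mul]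
    have hzT : z ∈ T := ⟨h.zS, mem_cent_of_commute (h.central x hxS)⟩
    have hTset : (T : Set G) = {1, z, x, x * z} := by
      refine Set.Subset.antisymm (fun a ha => ?_) ?_
      · rcases hall a ha with e | e | e | e <;> simp [e]
      · rintro a (rfl | rfl | rfl | rfl)
        exacts [T.one_mem, hzT, hxT, T.mul_mem hxT hzT]
    have hT4 : Nat.card T = 4 := by
      have hxz1 : x * z ≠ 1 := fun e => hxz (by rw [eq_inv_of_mul_eq_one_left e, h.hz.inv_eq])
      rw [← SetLike.coe_sort_coe, Nat.card_coe_set_eq, hTset,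
        Set.ncard_insert_of_notMem (by simp [Ne.symm h.hz.1, Ne.symm hxi.1, Ne.symm hxz1]) (Set.toFinite _),
        Set.ncard_insert_of_notMem (by simp [Ne.symm hxz, hxi.1]) (Set.toFinite _),
        Set.ncard_pair (fun e => h.hz.1 (mul_eq_left.mp e.symm))]
    refine h.card_cent_ne_four hn ⟨x, hxS⟩ (by rw [orderOf_mk]; exact hxi.orderOf_eq) ?_
    rw [← hT4]
    refine Nat.card_congr
      { toFun := fun a => ⟨((a : (S : Subgroup G)) : G), (a : (S : Subgroup G)).2, mem_cent_of_commute
          (congrArg Subtype.val (mem_centralizer_singleton_iff.mp a.2))⟩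
        invFun := fun a => ⟨⟨a, a.2.1⟩, mem_centralizer_singleton_iff.mpr
          (Subtype.ext (commute_of_mem_cent a.2.2))⟩
        left_inv := fun a => rfl
        right_inv := fun a => rfl }
  · push Not at hexp
    obtain ⟨c, hcT, hcu, hc2⟩ := hexp
    -- the only involution of `K` is `z`
    have hKinv : ∀ w ∈ K, IsInvol w → w = z := fun w hw hwi =>
      (hsmall w (hKT w hw).1 (hKT w hw).2 hwi.2).resolve_left hwi.1
    obtain ⟨w, hwK, hwi⟩ : ∃ w ∈ K, IsInvol w := by
      have hKp : IsPGroup 2 K := S.2.to_le fun w hw => (hKT w hw).1.1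
      have hcK : c * c ∈ K := subset_closure ⟨c, hcT, rfl⟩
      have hd : 2 ∣ orderOf (c * c) := by
        obtain ⟨k, hk⟩ := IsPGroup.iff_orderOf.mp hKp ⟨_, hcK⟩
        rw [orderOf_mk] at hk
        rw [hk]
        refine dvd_pow_self 2 fun e => hc2 ?_
        rw [e, pow_zero] at hk
        exact orderOf_eq_one_iff.mp hk
      refine ⟨(c * c) ^ (orderOf (c * c) / 2), K.pow_mem hcK _, isInvol_of_orderOf ?_⟩
      rw [orderOf_pow_orderOf_div (orderOf_pos _).ne' hd]
    have hzK : z ∈ K := (hKinv w hwK hwi) ▸ hwK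
    -- the normalizer of `T` fixes `z`
    have hfix : ∀ n ∈ normalizer (T : Set G), n * z = z * n := by
      intro n hn
      have hnK : ∀ v ∈ K, n * v * n⁻¹ ∈ K := by
        intro v hv
        induction hv using closure_induction with
        | mem v hv =>
          obtain ⟨a, ha, rfl⟩ := hv
          exact subset_closure ⟨n * a * n⁻¹, (mem_normalizer_iff.mp hn a).mp ha, by group⟩
        | one => simp
        | mul p q _ _ ip iq =>
          rw [show n * (p * q) * n⁻¹ = n * p * n⁻¹ * (n * q * n⁻¹) by group]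
          exact K.mul_mem ip iq
        | inv p _ ip =>
          rw [show n * p⁻¹ * n⁻¹ = (n * p * n⁻¹)⁻¹ by group]
          exact K.inv_mem ip
      exact mul_inv_eq_iff_eq_mul.mp (hKinv _ (hnK z hzK) (h.hz.conj n))
    set S' : Subgroup G := (S : Subgroup G).map (MulAut.conj g).toMonoidHom with hS'
    have hS'p : IsPGroup 2 S' := S.2.map _
    have hS'x : ∀ s ∈ S', s * x = x * s := by
      rintro _ ⟨s, hs, rfl⟩
      rw [hx]
      exact conj_commute g (h.central s hs).symm
    have hTS' : T ≤ S' := by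
      intro a ha
      have hq : (T.map (MulAut.conj g⁻¹).toMonoidHom) ≤ (S : Subgroup G) := by
        refine h.mem_of_pGroup ((S.2.to_le inf_le_left).map _) ?_
        rintro _ ⟨b, hb, rfl⟩
        have h2 := conj_commute g⁻¹ (commute_of_mem_cent hb.2)
        rw [hx, show g⁻¹ * (g * z * g⁻¹) * g⁻¹⁻¹ = z by group] at h2
        exact mem_cent_of_commute (by simpa using h2)
      exact ⟨g⁻¹ * a * g, hq ⟨a, ha, by simp⟩, by simp [mul_assoc]⟩
    have hne : T ≠ S' := by
      intro e
      have hc' : Nat.card T = Nat.card (S : Subgroup G) := by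
        rw [e, hS', card_map_of_injective (MulEquiv.injective (MulAut.conj g))]
      have hTS : T = (S : Subgroup G) := eq_of_le_of_card_ge inf_le_left hc'.ge
      exact hxz (h.uniq x hxS hxi fun s hs => (commute_of_mem_cent (hTS ▸ hs : s ∈ T).2).symm)
    haveI : Group.IsNilpotent S' := hS'p.isNilpotent
    have hlt : T.subgroupOf S' < (⊤ : Subgroup S') :=
      lt_top_iff_ne_top.mpr fun e => hne (le_antisymm hTS' (subgroupOf_eq_top.mp e))
    obtain ⟨r, hrN, hrT⟩ := SetLike.exists_of_lt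
      ((normalizerCondition_of_isNilpotent (G := S')) _ hlt)
    have hrN' : (r : G) ∈ normalizer (T : Set G) := CfsgLib.Comp.mem_normalizer_of_maps fun a ha =>
      ((mem_normalizer_iff.mp hrN ⟨a, hTS' ha⟩).mp ha : _)
    have hr1 : zpowers (r : G) ≤ (S : Subgroup G) :=
      h.mem_of_pGroup (hS'p.to_le (zpowers_le.mpr r.2)) (zpowers_le.mpr (mem_cent_of_commute (hfix _ hrN')))
    exact hrT ⟨hr1 (mem_zpowers _), mem_cent_of_commute (hS'x _ r.2)⟩

/-- An involution centralizing `u` outside the four-group. -/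
theorem One.exists_third (h : One S z) (hn : ¬ AllConj S z) (hu : Four S z u) {g x : G}
    (hx : x = g * z * g⁻¹) (hxS : x ∈ (S : Subgroup G)) (hxz : x ≠ z) :
    ∃ a, IsInvol a ∧ a ∈ (S : Subgroup G) ∧ a * u = u * a ∧ a ≠ z ∧ a ≠ u ∧ a ≠ z * u := by
  obtain ⟨hzu, hzuz, hzuu, hzuc⟩ := hu.zu h
  by_contra hno
  push Not at hno
  have hxi : IsInvol x := hx ▸ h.hz.conj g
  have hxu : x * u = u * x := by
    by_contra hxu
    obtain ⟨a, ha, haS, hau, hax, haz⟩ := h.exists_commuting hn hu hx hxS hxu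
    by_cases e : a = u
    · exact hxu (by rw [← e]; exact hax.symm)
    · have e2 := hno a ha haS hau haz e
      refine hxu ?_
      have h1 : z * a * x = x * (z * a) := commute_mul_left (h.central x hxS) hax
      rw [mem_cases h e2] at h1
      exact h1.symm
  -- hence `u` is conjugate to `z`
  obtain ⟨s, hs, hsu⟩ := hu.exists_swap h
  have huconj : ∃ k : G, u = k * z * k⁻¹ := by
    by_cases e : x = u
    · exact ⟨g, e ▸ hx⟩
    · have e2 := hno x hxi hxS hxu hxz e
      refine ⟨s⁻¹ * g, ?_⟩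
      calc u = s⁻¹ * (s * u * s⁻¹) * s := by group
        _ = s⁻¹ * x * s := by rw [hsu, e2]
        _ = s⁻¹ * g * z * (s⁻¹ * g)⁻¹ := by rw [hx]; group
  obtain ⟨k, hk⟩ := huconj
  refine hn fun t ht htS htH => ?_
  set R := (S : Subgroup G) ⊓ pResidual 2 G with hR
  set C := centralizer ({u} : Set G) with hC
  have hidx : (C ⊓ R).relIndex R ≤ 2 := by
    rw [inf_relIndex_right]
    exact (relIndex_le_of_le_right inf_le_left (Subgroup.index_ne_zero_of_finite)).trans (hu.index_le h)
  obtain ⟨c, -, hcM⟩ := transfer S inf_le_right hidx ht.2 ⟨htS, htH⟩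
  have hci : IsInvol (c⁻¹ * t * c) := by simpa using ht.conj c⁻¹
  have hcu : c⁻¹ * t * c * u = u * (c⁻¹ * t * c) := commute_of_mem_cent hcM.1
  by_cases e1 : c⁻¹ * t * c = z
  · exact ⟨c, by rw [← e1]; group⟩
  by_cases e2 : c⁻¹ * t * c = u
  · exact ⟨c * k, by rw [show c * k * z * (c * k)⁻¹ = c * (k * z * k⁻¹) * c⁻¹ by group, ← hk, ← e2]; group⟩
  have e3 := hno _ hci hcM.2.1 hcu e1 e2
  exact ⟨c * (s * k), by
    rw [show c * (s * k) * z * (c * (s * k))⁻¹ = c * (s * (k * z * k⁻¹) * s⁻¹) * c⁻¹ by group, ← hk, hsu, ← e3]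
    group⟩

/-- Three commuting involutions of `S`: one of their products centralizes `u` and is not `z`. -/
theorem Four.exists_half (h : One S z) (hu : Four S z u) {p q r : G} (hp : IsInvol p) (hq : IsInvol q)
    (hr : IsInvol r) (hpS : p ∈ (S : Subgroup G)) (hqS : q ∈ (S : Subgroup G)) (hrS : r ∈ (S : Subgroup G))
    (hpq : p * q = q * p) (hpr : p * r = r * p) (hqr : q * r = r * q) (hne : p ≠ q) (hrp : r ≠ p) (hrq : r ≠ q)
    (hrpq : r ≠ p * q) :
    ∃ e ∈ closure ({p, q, r} : Set G), IsInvol e ∧ e ∈ (S : Subgroup G) ∧ e * u = u * e ∧ e ≠ z := by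
  have mp : p ∈ closure ({p, q, r} : Set G) := subset_closure (by simp)
  have mq : q ∈ closure ({p, q, r} : Set G) := subset_closure (by simp)
  have mr : r ∈ closure ({p, q, r} : Set G) := subset_closure (by simp)
  have pick : ∀ {a b : G}, IsInvol a → IsInvol b → a ∈ (S : Subgroup G) → b ∈ (S : Subgroup G) →
      a ∈ closure ({p, q, r} : Set G) → b ∈ closure ({p, q, r} : Set G) → a * b = b * a → a ≠ b →
      (∃ e ∈ closure ({p, q, r} : Set G), IsInvol e ∧ e ∈ (S : Subgroup G) ∧ e * u = u * e ∧ e ≠ z) ∨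
        (z = a ∨ z = b ∨ z = a * b) := by
    intro a b ha hb haS hbS ma mb hab hne'
    rcases hu.half haS hbS h.hz.1 (h.central a haS) with e | e | e
    · by_cases e' : a = z
      · exact Or.inr (Or.inl e'.symm)
      · exact Or.inl ⟨a, ma, ha, haS, e, e'⟩
    · by_cases e' : b = z
      · exact Or.inr (Or.inr (Or.inl e'.symm))
      · exact Or.inl ⟨b, mb, hb, hbS, e, e'⟩
    · by_cases e' : a * b = z
      · exact Or.inr (Or.inr (Or.inr e'.symm))
      · exact Or.inl ⟨a * b, mul_mem ma mb, ha.mul hb hab hne', mul_mem haS hbS, e, e'⟩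
  have hpri := hp.mul hr hpr (Ne.symm hrp)
  rcases pick hp hq hpS hqS mp mq hpq hne with e | h1
  · exact e
  rcases pick hr hpri hrS (mul_mem hpS hrS) mr (mul_mem mp mr)
    (by rw [← mul_assoc, ← hpr]) (fun e => hp.1 (mul_eq_right.mp e.symm)) with e | h2
  · exact e
  rcases pick hq hr hqS hrS mq mr hqr (Ne.symm hrq) with e | h3
  · exact e
  exfalso
  have e4 : r * (p * r) = p := by rw [← mul_assoc, ← hpr, mul_assoc, hr.2, mul_one]
  rw [e4] at h2
  have hzp : z = p := by
    rcases h2 with e | e | e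
    · rcases h1 with e' | e' | e'
      · exact e'
      · exact absurd (e.symm.trans e') hrq
      · exact absurd (e.symm.trans e') hrpq
    · rcases h1 with e' | e' | e'
      · exact e'
      · exact absurd (show r = p * q by rw [← e'.symm.trans e |>.symm, ← mul_assoc, hp.2, one_mul]) hrpq
      · exact absurd (mul_left_cancel (e.symm.trans e')) hrq
    · exact e
  subst hzp
  rcases h3 with e | e | e
  · exact hne e
  · exact hrp e.symm
  · exact hrpq (by rw [hpq, e, ← mul_assoc, hq.2, one_mul])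

/-- The odd subgroup. -/
theorem One.exists_hyp (h : One S z) (hC : SolvCent G) (hn : ¬ AllConj S z)
    {g₀ x : G} (hx : x = g₀ * z * g₀⁻¹) (hxS : x ∈ (S : Subgroup G)) (hxz : x ≠ z) :
    ∃ W, Hyp S (pResidual 2 G) (zpowers z) W := by
  haveI : Fact (Nat.Prime 2) := ⟨Nat.prime_two⟩
  haveI := CfsgLib.PResidual.pResidual_normal (G := G) (p := 2)
  obtain ⟨u, hu⟩ := h.exists_four hn (hx ▸ h.hz.conj g₀) hxS hxz
  obtain ⟨hzu, hzuz, hzuu, hzuc⟩ := hu.zu h
  obtain ⟨a₀, ha₀, ha₀S, ha₀u, ha₀z, ha₀u', ha₀zu⟩ := h.exists_third hn hu hx hxS hxz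
  have hza₀ := h.central a₀ ha₀S
  set W := theta z ⊔ theta u ⊔ theta (z * u) with hW
  -- cores of involutions centralizing a four-group of `C(u)` through `z`
  have hone : ∀ v, IsInvol v → v ∈ (S : Subgroup G) → v * u = u * v → theta v ≤ W := fun v hv hvS hvu =>
    theta_le_sup hC hv h.hz hu.hu (Ne.symm hu.ne) (h.central u hu.uS) (h.central v hvS) hvu.symm
  have hfour : ∀ t e, IsInvol t → t ∈ (S : Subgroup G) → IsInvol e → e ∈ (S : Subgroup G) → e * u = u * e →
      e ≠ z → e * t = t * e → theta t ≤ W := by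
    intro t e ht htS he heS heu hez het
    refine (theta_le_sup hC ht h.hz he (Ne.symm hez) (h.central e heS) (h.central t htS) het).trans
      (sup_le (sup_le (le_sup_left.trans le_sup_left) (hone e he heS heu)) (hone _ ?_ ?_ ?_))
    · exact h.hz.mul he (h.central e heS) (Ne.symm hez)
    · exact mul_mem h.zS heS
    · exact commute_mul_left (h.central u hu.uS) heu
  have hodd : ¬ 2 ∣ Nat.card W :=
    not_two_dvd_closure hC h.hz hu.hu ha₀ (h.central u hu.uS) hza₀ ha₀u.symm (Ne.symm hu.ne) ha₀z ha₀u' ha₀zu le_rfl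
  -- the images of the generators
  have hcl : ∀ g : G, g * z * g⁻¹ ∈ (S : Subgroup G) → g ∈ normalizer (W : Set G) := by
    intro g hg
    suffices hgen : ∀ v, IsInvol v → v ∈ (S : Subgroup G) → v ≠ z →
        (∀ a ∈ (S : Subgroup G), a * u = u * a → a * v = v * a) →
        (∀ s ∈ (S : Subgroup G), s * v * s⁻¹ = v ∨ s * v * s⁻¹ = z * v) → theta (g * v * g⁻¹) ≤ W by
      have h1 : theta (g * z * g⁻¹) ≤ W := (h.theta_conj_eq hC hg).le.trans (le_sup_left.trans le_sup_left)
      have h2 := hgen u hu.hu hu.uS hu.ne (fun _ _ e => e) hu.conj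
      have h3 := hgen (z * u) hzu (mul_mem h.zS hu.uS) hzuz (fun a haS e =>
        (commute_mul_left (h.central a haS) e.symm).symm) (by
        intro s hs
        have hsz : s * z * s⁻¹ = z := by rw [← h.central s hs, mul_inv_cancel_right]
        rw [show s * (z * u) * s⁻¹ = s * z * s⁻¹ * (s * u * s⁻¹) by group, hsz]
        rcases hu.conj s hs with e | e <;> rw [e]
        exacts [Or.inl rfl, Or.inr rfl])
      refine mem_normalizer_iff_map_conj_eq.mpr (eq_of_le_of_card_ge ?_
        (card_map_of_injective (MulEquiv.injective (MulAut.conj g))).ge)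
      rw [hW, Subgroup.map_sup, Subgroup.map_sup]
      exact sup_le (sup_le ((theta_conj g z).le.trans h1) ((theta_conj g u).le.trans h2))
        ((theta_conj g (z * u)).le.trans h3)
    intro v hv hvS hvz hvcomm hvconj
    set y := g⁻¹ * z * g with hy
    have hyS : y ∈ (S : Subgroup G) := h.symm_conj hg
    have hyi : IsInvol y := by simpa [hy] using h.hz.conj g⁻¹
    by_cases hyz : y = z
    · -- `g` normalizes `S`
      have hgz : g * z = z * g := by
        calc g * z = g * y := by rw [hyz]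
          _ = z * g := by rw [hy]; group
      have hgN := h.cent (mem_cent_of_commute hgz)
      have hbS : g * v * g⁻¹ ∈ (S : Subgroup G) := (mem_normalizer_iff.mp hgN v).mp hvS
      have hbi := hv.conj g
      have hbz : g * v * g⁻¹ ≠ z := fun e => hvz (by
        rw [show v = g⁻¹ * (g * v * g⁻¹) * g by group, e]; exact hyz)
      by_cases hbu : g * v * g⁻¹ * u = u * (g * v * g⁻¹)
      · exact hone _ hbi hbS hbu
      have hb : Four S z (g * v * g⁻¹) := ⟨hbi, hbS, hbz, fun s hs => by
        have hs' : g⁻¹ * s * g ∈ (S : Subgroup G) := by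
          simpa using (mem_normalizer_iff.mp (inv_mem hgN) s).mp hs
        rw [show s * (g * v * g⁻¹) * s⁻¹ = g * ((g⁻¹ * s * g) * v * (g⁻¹ * s * g)⁻¹) * g⁻¹ by group]
        rcases hvconj _ hs' with e | e <;> rw [e]
        · exact Or.inl rfl
        · refine Or.inr ?_
          rw [← mul_assoc g z v, hgz]
          group⟩
      rcases hb.half ha₀S hu.uS h.hz.1 hza₀ with e | e | e
      · exact hfour _ a₀ hbi hbS ha₀ ha₀S ha₀u ha₀z e
      · exact absurd e.symm hbu
      · refine hfour _ _ hbi hbS (ha₀.mul hu.hu ha₀u ha₀u') (mul_mem ha₀S hu.uS) (commute_mul_left ha₀u rfl)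
          (fun e' => ha₀zu ?_) e
        rw [← e', mul_assoc, hu.hu.2, mul_one]
    · -- an involution of `C(u)` commuting with `y`
      obtain ⟨a, ha, haS, hau, hay, haz, hay', hazy⟩ : ∃ a, IsInvol a ∧ a ∈ (S : Subgroup G) ∧ a * u = u * a ∧
          a * y = y * a ∧ a ≠ z ∧ a ≠ y ∧ a ≠ z * y := by
        by_cases hyu : y * u = u * y
        · by_cases e1 : y = u
          · exact ⟨a₀, ha₀, ha₀S, ha₀u, e1 ▸ ha₀u, ha₀z, e1 ▸ ha₀u', e1 ▸ ha₀zu⟩
          by_cases e2 : y = z * u
          · refine ⟨a₀, ha₀, ha₀S, ha₀u, ?_, ha₀z, e2 ▸ ha₀zu, ?_⟩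
            · rw [e2]; exact (commute_mul_left hza₀ ha₀u.symm).symm
            · rw [mem_cases h e2]; exact ha₀u'
          exact ⟨u, hu.hu, hu.uS, rfl, hyu.symm, hu.ne, Ne.symm e1,
            fun e => e2 (mem_cases h e).symm⟩
        · obtain ⟨a, ha, haS, hau, hay, haz⟩ :=
            h.exists_commuting hn hu (g := g⁻¹) (x := y) (by rw [hy, inv_inv]) hyS hyu
          refine ⟨a, ha, haS, hau, hay, haz, fun e => hyu (e ▸ hau), fun e => hyu ?_⟩
          rw [← mem_cases h e]
          exact commute_mul_left (h.central u hu.uS) hau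
      set b := g * a * g⁻¹ with hb
      set x' := g * z * g⁻¹ with hx'
      have hgy : g * y * g⁻¹ = z := by rw [hy]; group
      have hbi : IsInvol b := ha.conj g
      have hxi : IsInvol x' := h.hz.conj g
      have hbz : b * z = z * b := by
        have := conj_commute g hay
        rwa [hgy] at this
      have hbS := h.mem_of_commute hbi.2 hbz
      have hinj : ∀ {p q : G}, g * p * g⁻¹ = g * q * g⁻¹ → p = q := fun {p q} e =>
        mul_left_cancel (mul_right_cancel e)
      have hxb : x' * b = b * x' := conj_commute g (h.central a haS)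
      have hne : x' ≠ b := fun e => haz (hinj e).symm
      have hbz' : b ≠ z := fun e => hay' (hinj (e.trans hgy.symm))
      have hxz' : x' ≠ z := fun e => hyz (hinj (hgy.trans e.symm))
      have hxbz : x' * b ≠ z := fun e => hazy (by
        have e3 : g * (z * a) * g⁻¹ = x' * b := by rw [hx', hb]; group
        have e2 : g * (z * a) * g⁻¹ = g * y * g⁻¹ := e3.trans (e.trans hgy.symm)
        rw [← hinj e2, ← mul_assoc, h.hz.2, one_mul])
      have hxbi := hxi.mul hbi hxb hne
      have hxbS := mul_mem hg hbS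
      -- all three cores lie in `W`
      have hall : theta x' ≤ W ∧ theta b ≤ W ∧ theta (x' * b) ≤ W := by
        obtain ⟨e, hei, heS, heu, hez, hex, heb⟩ : ∃ e, IsInvol e ∧ e ∈ (S : Subgroup G) ∧ e * u = u * e ∧
            e ≠ z ∧ e * x' = x' * e ∧ e * b = b * e := by
          rcases hu.half hg hbS h.hz.1 (h.central _ hg) with e | e | e
          · exact ⟨x', hxi, hg, e, hxz', rfl, hxb⟩
          · exact ⟨b, hbi, hbS, e, hbz', hxb.symm, rfl⟩
          · exact ⟨x' * b, hxbi, hxbS, e, hxbz, commute_mul_left rfl hxb.symm, commute_mul_left hxb rfl⟩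
        exact ⟨hfour x' e hxi hg hei heS heu hez hex, hfour b e hbi hbS hei heS heu hez heb,
          hfour _ e hxbi hxbS hei heS heu hez
            (commute_mul_left hex.symm heb.symm).symm⟩
      -- transport
      exact (theta_le_sup hC (hv.conj g) hxi hbi hne hxb (conj_commute g (h.central v hvS))
        (conj_commute g (hvcomm a haS hau))).trans (sup_le (sup_le hall.1 hall.2.1) hall.2.2)
  refine ⟨W, ⟨inferInstance, zpowers_le.mpr h.zS, fun w hw s hs => ?_, hodd,
    fun g hg => hcl g (hg z (mem_zpowers z)), fun t ht htS htH hext => ?_⟩⟩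
  · obtain ⟨i, rfl⟩ := mem_zpowers_iff.mp hw
    exact ((show Commute z s from h.central s hs).zpow_left i).eq
  -- extremal involutions
  by_cases hconj : ∃ k : G, t = k * z * k⁻¹
  · obtain ⟨k, rfl⟩ := hconj
    exact (h.theta_conj_eq hC htS).le.trans (le_sup_left.trans le_sup_left)
  by_cases he : ∃ e, IsInvol e ∧ e ∈ (S : Subgroup G) ∧ e * u = u * e ∧ e ≠ z ∧ e * t = t * e
  · obtain ⟨e, he, heS, heu, hez, het⟩ := he
    exact hfour t e ht htS he heS heu hez het
  exfalso
  refine he ?_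
  set R := (S : Subgroup G) ⊓ pResidual 2 G with hR
  set C := centralizer ({u} : Set G) with hCd
  have hidx : (C ⊓ R).relIndex R ≤ 2 := by
    rw [inf_relIndex_right]
    exact (relIndex_le_of_le_right inf_le_left (Subgroup.index_ne_zero_of_finite)).trans (hu.index_le h)
  obtain ⟨c, -, hcM⟩ := transfer S inf_le_right hidx ht.2 ⟨htS, htH⟩
  set t' := c⁻¹ * t * c with ht'
  have ht'i : IsInvol t' := by simpa [ht'] using ht.conj c⁻¹
  have ht'S : t' ∈ (S : Subgroup G) := hcM.2.1
  have ht'u : t' * u = u * t' := commute_of_mem_cent hcM.1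
  have ht'z : t' ≠ z := fun e => hconj ⟨c, by rw [← e, ht']; group⟩
  obtain ⟨r, hri, hrS, hru, hrz, hru', hrzu, hrt⟩ : ∃ r, IsInvol r ∧ r ∈ (S : Subgroup G) ∧ r * u = u * r ∧
      r ≠ z ∧ r ≠ u ∧ r ≠ z * u ∧ r * t' = t' * r := by
    by_cases e1 : t' = u
    · exact ⟨a₀, ha₀, ha₀S, ha₀u, ha₀z, ha₀u', ha₀zu, e1 ▸ ha₀u⟩
    by_cases e2 : t' = z * u
    · exact ⟨a₀, ha₀, ha₀S, ha₀u, ha₀z, ha₀u', ha₀zu, e2 ▸ (commute_mul_left hza₀ ha₀u.symm).symm⟩
    exact ⟨t', ht'i, ht'S, ht'u, ht'z, e1, e2, rfl⟩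
  -- conjugate `⟨z, u, r⟩` into the centralizer of `t` in `S`
  set Ct := centralizer ({t} : Set G) with hCt
  have hct : c * t' * c⁻¹ = t := by rw [ht']; group
  have key : ∀ {w : G}, w * t' = t' * w → c * w * c⁻¹ ∈ Ct := fun {w} hw => by
    have := conj_commute c hw
    rw [hct] at this
    exact mem_cent_of_commute this
  set E := closure ({c * z * c⁻¹, c * u * c⁻¹, c * r * c⁻¹} : Set G) with hE
  have hEp : IsPGroup 2 E := closure_three_pGroup (h.hz.conj c) (hu.hu.conj c) (hri.conj c)
    (conj_commute c (h.central u hu.uS)) (conj_commute c (h.central r hrS)) (conj_commute c hru.symm)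
  have hEC : E ≤ Ct := (closure_le _).mpr (by
    rintro w (rfl | rfl | rfl)
    exacts [key (h.central t' ht'S), key ht'u.symm, key hrt])
  let T : Sylow 2 ↥Ct :=
    { toSubgroup := ((S : Subgroup G) ⊓ Ct).subgroupOf Ct
      isPGroup' := (S.2.to_le inf_le_left).comap_subtype
      is_maximal' := fun {Q} hQ hle => by
        have h1 : Q.map Ct.subtype = (S : Subgroup G) ⊓ Ct := hext _ (hQ.map _) (map_subtype_le _) fun w hw =>
          ⟨⟨w, hw.2⟩, hle (show (⟨w, hw.2⟩ : ↥Ct) ∈ ((S : Subgroup G) ⊓ Ct).subgroupOf Ct from hw), rfl⟩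
        rw [← h1, subgroupOf, comap_map_eq_self_of_injective Ct.subtype_injective] }
  obtain ⟨d, hd⟩ := exists_conj_into T (hEp.comap_subtype (K := Ct))
  have hdS : ∀ w ∈ E, (d : G) * w * (d : G)⁻¹ ∈ (S : Subgroup G) ∧ (d : G) * w * (d : G)⁻¹ ∈ Ct := by
    intro w hw
    have hm := hd ⟨w, hEC hw⟩ hw
    exact ⟨(show ((d * ⟨w, hEC hw⟩ * d⁻¹ : ↥Ct) : G) ∈ (S : Subgroup G) ⊓ Ct from hm).1,
      mul_mem (mul_mem d.2 (hEC hw)) (inv_mem d.2)⟩
  set f := (d : G) * c with hf
  have hfc : ∀ w : G, (d : G) * (c * w * c⁻¹) * (d : G)⁻¹ = f * w * f⁻¹ := fun w => by rw [hf]; group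
  have mz : c * z * c⁻¹ ∈ E := subset_closure (by simp)
  have mu : c * u * c⁻¹ ∈ E := subset_closure (by simp)
  have mr : c * r * c⁻¹ ∈ E := subset_closure (by simp)
  have hfi : ∀ {p q : G}, f * p * f⁻¹ = f * q * f⁻¹ → p = q := fun {p q} e =>
    mul_left_cancel (mul_right_cancel e)
  obtain ⟨e, heE, hei, heS, heu, hez⟩ := hu.exists_half h (h.hz.conj f) (hu.hu.conj f) (hri.conj f)
    (hfc z ▸ (hdS _ mz).1) (hfc u ▸ (hdS _ mu).1) (hfc r ▸ (hdS _ mr).1)
    (conj_commute f (h.central u hu.uS)) (conj_commute f (h.central r hrS)) (conj_commute f hru.symm)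
    (fun e => hu.ne (hfi e).symm) (fun e => hrz (hfi e)) (fun e => hru' (hfi e))
    (fun e => hrzu (hfi (e.trans (by group))))
  refine ⟨e, hei, heS, heu, hez, commute_of_mem_cent ((closure_le Ct).mpr ?_ heE)⟩
  rintro w (rfl | rfl | rfl)
  exacts [hfc z ▸ (hdS _ mz).2, hfc u ▸ (hdS _ mu).2, hfc r ▸ (hdS _ mr).2]

end CfsgLib.ZCReduction
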